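import Groth.Agent.DecShCurveLib.Basic
import Groth.Agent.ASp.PropDescend
import Groth.Agent.DCohLib.PerfLocFree
import Groth.Agent.DegDevLib.Deg
import Groth.Agent.CycLib.Chern.SubLine

/-!
# The slope bound for parabolic tensor fields
-/

set_option autoImplicit false
set_option backward.isDefEq.respectTransparency false
set_option linter.style.haveILetI false
set_option linter.unusedSectionVars false

universe u

open CategoryTheory CategoryTheory.Limits AlgebraicGeometry TopologicalSpace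

noncomputable section

namespace Groth.Agent.DecShCurveLib

theorem slope_le {k : Type u} [Field k] {Y : Scheme.{u}} [Y.Over (Spec (CommRingCat.of k))]
    [IsProper (Y ↘ Spec (CommRingCat.of k))] [Smooth (Y ↘ Spec (CommRingCat.of k))]
    (hdim : topologicalKrullDim Y = 1) (hpure : ∀ y : Y, ¬ IsOpen ({y} : Set Y)) {L : Y.Modules}
    (hL : CohB1.IsAmple L) {E : Y.Modules} {r : ℕ} (hE : FlatMod.IsFinLocFreeOfRank r E)
    {ν : ℕ} (I : Fin ν → Y.IdealSheafData) (K : ∀ i, Submodule k (ParSh.fibD Y (I i) E))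
    (hK : ∀ i, Module.finrank k (ParSh.fibD Y (I i) E ⧸ K i) = r)
    (κ : Fin ν → ℚ) (hκ : ∀ i, 0 < κ i ∧ κ i < 1) {D : Y.Modules} {a b : ℕ} (T : DecSh.TF E a b D)
    (δ : ℚ) (hδ : 0 < δ) (hT : T.IsParSemistable k I K κ L δ)
    {F : Y.Modules} (ι : F ⟶ E) [Mono ι] (hF : Coh.IsCoh F) (hF0 : ¬ IsZero F) (hι : ¬ IsIso ι) :
    (Curv2.euler k Y F : ℚ) / (DecSh.mult k Y L F : ℚ) ≤
      (Curv2.euler k Y E : ℚ) / (DecSh.mult k Y L E : ℚ) + ((a : ℚ) * δ + (r : ℚ) * (ν : ℚ)) := by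
  haveI := EulerIneqLib.isNoetherian_proper (X := Y) k
  haveI : AlgebraicGeometry.IsReduced Y := ASp.isReduced_of_smooth (Y ↘ Spec (CommRingCat.of k))
  have hEc : Coh.IsCoh E := DegDevLib.isCoh_of_rank hE
  have htf : TorSh.IsTorsionFree E := fun y => by
    haveI := (DCohLib.free_finite_stalk_of_flf (fun x => (hE x).imp fun U h => ⟨r, h⟩) y).1
    infer_instance
  have hp := isPure_of_torsionFree hdim hpure hEc htf
  have hb := mult_bounds k hdim hL hEc hp ι hF hF0
  have h := test_single k hdim hL hEc hp T _ _ δ hδ hT ι hF hF0 hι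
  have hE1 : DecSh.parChi k I K κ (𝟙 E) ≤ (Curv2.euler k Y E : ℚ) :=
    sub_le_self _ (Finset.sum_nonneg fun i _ => mul_nonneg (hκ i).1.le (Nat.cast_nonneg _))
  have hr : 0 < r := by
    by_contra hr
    push Not at hr
    obtain rfl : r = 0 := by omega
    exact hF0 ((IsZero.iff_id_eq_zero F).2 ((cancel_mono ι).1
      ((CycLib.isZero_of_rank_zero hE).eq_of_tgt _ _)))
  have hF1 : (Curv2.euler k Y F : ℚ) - (r : ℚ) * (ν : ℚ) ≤ DecSh.parChi k I K κ (Subobject.mk ι).arrow := by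
    have he : Curv2.euler k Y ((Subobject.mk ι : Subobject E) : Y.Modules) = Curv2.euler k Y F :=
      CurveLib.euler_iso (K := k) (Subobject.underlyingIso ι)
    rw [DecSh.parChi, he]
    refine sub_le_sub_left ((Finset.sum_le_sum (g := fun _ : Fin ν => (r : ℚ)) fun i _ => ?_).trans ?_) _
    · haveI : Module.Finite k (ParSh.fibD Y (I i) E ⧸ K i) := Module.finite_of_finrank_pos ((hK i).symm ▸ hr)
      exact (mul_le_of_le_one_left (Nat.cast_nonneg _) (hκ i).2.le).trans
        (Nat.cast_le.2 ((Submodule.finrank_le _).trans (hK i).le))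
    · rw [Finset.sum_const, Finset.card_fin, nsmul_eq_mul, mul_comm]
  set αE := (DecSh.mult k Y L E : ℚ)
  set αF := (DecSh.mult k Y L F : ℚ)
  have hαF : 1 ≤ αF := by simp only [αF]; exact_mod_cast hb.1
  have hαE : αF ≤ αE := by simp only [αF, αE]; exact_mod_cast hb.2
  have h' : αE * (Curv2.euler k Y F : ℚ) - αF * (Curv2.euler k Y E : ℚ) ≤
      δ * (a : ℚ) * (αE - αF) + αE * ((r : ℚ) * (ν : ℚ)) := by
    nlinarith [mul_le_mul_of_nonneg_left hF1 (by linarith : (0 : ℚ) ≤ αE),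
      mul_le_mul_of_nonneg_left hE1 (by linarith : (0 : ℚ) ≤ αF)]
  have hδa : 0 ≤ δ * (a : ℚ) := mul_nonneg hδ.le (Nat.cast_nonneg _)
  have hrν : 0 ≤ (r : ℚ) * (ν : ℚ) := by positivity
  rw [← sub_le_iff_le_add', div_sub_div _ _ (by linarith) (by linarith), div_le_iff₀ (mul_pos (by linarith) (by linarith))]
  nlinarith [mul_nonneg hδa (by nlinarith : (0 : ℚ) ≤ αF * αE - (αE - αF)),
    mul_nonneg hrν (by nlinarith : (0 : ℚ) ≤ αF * αE - αE)]

end Groth.Agent.DecShCurveLib
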