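import Groth.Agent.TFOneLib.Basic
import Groth.Agent.ShStabLib.Core
import Groth.Agent.ShStabLib.Noeth
import Groth.Agent.PullbackMod.SuppClosed
import Groth.Prelude.Def_DecSh2

/-!
# Multiplicities of torsion-free modules on curves and weights of tensor fields
-/

set_option autoImplicit false
set_option backward.isDefEq.respectTransparency false
set_option linter.style.haveILetI false
set_option linter.unusedSectionVars false

universe u

open CategoryTheory CategoryTheory.Limits AlgebraicGeometry TopologicalSpace Polynomial StabCat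

noncomputable section

namespace Groth.Agent.DecShCurveLib

open ShStabLib MeroLib

variable {X : Scheme.{u}}

theorem exists_ne_specializes_of_maxPt [NoetherianSpace X] (hpure : ∀ x : X, ¬ IsOpen ({x} : Set X)) {η : X}
    (hη : η ∈ genericPoints X) : ∃ y : X, η ⤳ y ∧ y ≠ η := by
  classical
  by_contra hcon
  push Not at hcon
  have hcl : closure ({η} : Set X) = {η} :=
    Set.Subset.antisymm (fun y hy => hcon y (specializes_iff_mem_closure.2 hy)) subset_closure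
  have hC : ({η} : Set X) ∈ irreducibleComponents (X : Type u) := hcl ▸ hη
  refine hpure η ?_
  have hU : IsOpen ((⋃ C ∈ irreducibleComponents (X : Type u) \ {({η} : Set X)}, C)ᶜ) :=
    (Set.Finite.isClosed_biUnion (NoetherianSpace.finite_irreducibleComponents.subset Set.diff_subset)
      fun C h => isClosed_of_mem_irreducibleComponents C h.1).isOpen_compl
  convert hU using 1
  ext y
  simp only [Set.mem_singleton_iff, Set.mem_compl_iff, Set.mem_iUnion, not_exists]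
  constructor
  · rintro rfl C hC' hyC
    exact hC'.2 (hC.1.nonempty.elim fun _ _ => ((hC.2 hC'.1.1 (Set.singleton_subset_iff.2 hyC)).antisymm
      (Set.singleton_subset_iff.2 hyC)))
  · intro h
    by_contra hy
    refine h (irreducibleComponent y) ⟨irreducibleComponent_mem_irreducibleComponents y, fun e => hy ?_⟩
      mem_irreducibleComponent
    have := (mem_irreducibleComponent (x := y))
    rw [Set.mem_singleton_iff] at e
    rwa [e] at this

/-- Torsion-free modules on a curve without isolated points are pure of dimension one. -/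
theorem isPure_of_torsionFree [IsReduced X] [AlgebraicGeometry.IsNoetherian X] (hdim : topologicalKrullDim X = 1)
    (hpure : ∀ x : X, ¬ IsOpen ({x} : Set X)) {E : X.Modules} (hE : Coh.IsCoh E) (htf : TorSh.IsTorsionFree E) :
    ShStab.IsPure X E 1 := by
  intro F ι hι hF h0
  haveI := hι
  haveI := hE.1
  obtain ⟨η, hη, hne⟩ : ∃ η : X, IsMaxPt η ∧ η ∈ CohB1.support F := by
    by_contra hcon
    push Not at hcon
    refine h0 ((IsZero.iff_id_eq_zero F).2 ((cancel_mono ι).1 ?_))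
    rw [Category.id_comp, Limits.zero_comp]
    refine TFOneLib.hom_eq_zero htf ι fun η hη => LinearMap.ext fun z => ?_
    haveI : Subsingleton (F.presheaf.stalk η) := not_not.1 (hcon η hη)
    rw [Subsingleton.elim z 0, map_zero]
    exact (LinearMap.zero_apply _).symm
  obtain ⟨y, hy, hyne⟩ := exists_ne_specializes_of_maxPt hpure ((TFOneLib.isMaxPt_iff_genericPoints η).1 hη)
  have hcl := PullbackMod.isClosed_support_of_isFT hF.2
  have hyF : y ∈ CohB1.support F := hy.mem_closed hcl hne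
  refine le_antisymm ?_ ?_
  · refine Topology.IsInducing.subtypeVal.topologicalKrullDim_le.trans (le_of_eq (hdim.trans ?_))
    simp
  · refine not_lt.1 ((HilbLib.not_dim_lt_iff hcl 1).2 ⟨![y, η], fun i => ?_, fun i j hij => ?_⟩)
    · fin_cases i
      · exact hyF
      · exact hne
    · fin_cases i <;> fin_cases j <;> first | exact absurd hij (lt_irrefl _) | skip
      · exact ⟨hy, hyne⟩
      · exact absurd hij (by decide)

variable (k : Type u) [Field k] [X.Over (Spec (CommRingCat.of k))] [IsProper (X ↘ Spec (CommRingCat.of k))]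
  {L : X.Modules}

theorem mult_iso {M N : X.Modules} (e : M ≅ N) : DecSh.mult k X L M = DecSh.mult k X L N := by
  rw [DecSh.mult, DecSh.mult, CurveLib.euler_iso (K := k) e,
    CurveLib.euler_iso (K := k) (AmpleLib.tIso e (Iso.refl L))]

theorem mult_eq_alpha (hdim : topologicalKrullDim X = 1) (hL : CohB1.IsAmple L) {M : X.Modules} (hM : Coh.IsCoh M) :
    ∃ P : ℚ[X], HP k L M P ∧ (DecSh.mult k X L M : ℚ) = alpha 1 P ∧ DimLE 1 M := by
  have hd : DimLE 1 M := by
    refine lt_of_le_of_lt Topology.IsInducing.subtypeVal.topologicalKrullDim_le ?_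
    rw [hdim]
    exact_mod_cast Nat.lt_succ_self 1
  obtain ⟨P, hP, hP'⟩ := exists_hp k hL hM hd
  refine ⟨P, hP', ?_, hd⟩
  have h0 : (Curv2.euler k X M : ℚ) = P.eval 0 := by
    have := hP' 0
    rw [Nat.cast_zero] at this
    rw [← this]
    exact congrArg (fun z : ℤ => (z : ℚ)) (CurveLib.euler_iso (K := k) (AmpleLib.unitR M).symm)
  have h1 : (Curv2.euler k X (CohB1.tensorMod M L) : ℚ) = P.eval 1 := by
    have := hP' 1
    rw [Nat.cast_one] at this
    rw [← this]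
    exact congrArg (fun z : ℤ => (z : ℚ)) (CurveLib.euler_iso (K := k) (AmpleLib.tIso (Iso.refl M) (AmpleLib.powOne L).symm))
  rw [DecSh.mult, Int.cast_sub, h0, h1, eq_X_add_C_of_degree_le_one (Polynomial.degree_le_iff_coeff_zero P 1 |>.2 fun m hm =>
    (degree_lt_iff_coeff_zero P 2).1 hP m (by exact_mod_cast hm))]
  simp [alpha]

variable (hdim : topologicalKrullDim X = 1) (hL : CohB1.IsAmple L) {E : X.Modules} (hE : Coh.IsCoh E)
  (hp : ShStab.IsPure X E 1)

include hdim hL hE hp in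
theorem mult_bounds {F : X.Modules} (ι : F ⟶ E) [Mono ι] (hF : Coh.IsCoh F) (h0 : ¬ IsZero F) :
    1 ≤ DecSh.mult k X L F ∧ DecSh.mult k X L F ≤ DecSh.mult k X L E := by
  obtain ⟨P, hP, hα, -⟩ := mult_eq_alpha k hdim hL hF
  obtain ⟨Q, hQ, hβ, hd⟩ := mult_eq_alpha k hdim hL hE
  have h1 := alpha_pos_of_isPure k hL hF h0 (isPure_of_mono hp ι) hP
  have h2 := alpha_le_of_mono k hL ι hF hE hd hP hQ
  rw [← hα] at h1 h2
  rw [← hβ] at h2
  exact ⟨by exact_mod_cast h1, by exact_mod_cast h2⟩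

include hdim hL hE hp in
theorem mult_piece (𝓕 : DecSh.WFilt E) (hcoh : ∀ i, Coh.IsCoh ((𝓕.piece i : Subobject E) : X.Modules)) (i : Fin 𝓕.t) :
    1 ≤ DecSh.mult k X L (𝓕.piece i : X.Modules) ∧
      DecSh.mult k X L (𝓕.piece i : X.Modules) ≤ DecSh.mult k X L E :=
  mult_bounds k hdim hL hE hp (𝓕.piece i).arrow (hcoh i) (𝓕.piece_nonzero i)

section weights

variable {C : Type*} [Category C] {O : C} (𝓕 : DecSh.WFilt O) (αE : ℤ) (α : Subobject O → ℤ) {a : ℕ}
  (hα : ∀ i, 1 ≤ α (𝓕.piece i) ∧ α (𝓕.piece i) ≤ αE)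

include hα in
theorem mulX_le (j : Fin (𝓕.t + 1)) : 𝓕.mulX αE α j ≤ αE := by
  refine Fin.lastCases ?_ (fun i => ?_) j
  · rw [DecSh.WFilt.mulX_last]
  · rw [DecSh.WFilt.mulX_castSucc]; exact (hα i).2

include hα in
theorem term_bounds (I : Fin a → Fin (𝓕.t + 1)) (i : Fin 𝓕.t) :
    (a : ℚ) * (α (𝓕.piece i) : ℚ) - (𝓕.nu αE α I i : ℚ) * (αE : ℚ) ≤ (a : ℚ) * ((αE : ℚ) - 1) ∧
      -((a : ℚ) * ((αE : ℚ) - 1)) ≤ (a : ℚ) * (α (𝓕.piece i) : ℚ) - (𝓕.nu αE α I i : ℚ) * (αE : ℚ) := by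
  have h1 : (1 : ℚ) ≤ (α (𝓕.piece i) : ℚ) := by exact_mod_cast (hα i).1
  have h2 : (α (𝓕.piece i) : ℚ) ≤ (αE : ℚ) := by exact_mod_cast (hα i).2
  have hn : (𝓕.nu αE α I i : ℚ) ≤ (a : ℚ) := by
    refine Nat.cast_le.2 ((Finset.card_le_univ _).trans ?_)
    rw [Fintype.card_fin]
  have hn0 : (0 : ℚ) ≤ (𝓕.nu αE α I i : ℚ) := Nat.cast_nonneg _
  have ha : (0 : ℚ) ≤ (a : ℚ) := Nat.cast_nonneg _
  refine ⟨?_, by nlinarith⟩
  rcases (hα i).2.lt_or_eq with h | h
  · have h3 : (α (𝓕.piece i) : ℚ) ≤ (αE : ℚ) - 1 := by exact_mod_cast (Int.le_sub_one_of_lt h)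
    nlinarith
  · have e : 𝓕.nu αE α I i = a := by
      refine (congrArg Finset.card (Finset.filter_true_of_mem fun j _ => ?_)).trans (Finset.card_fin a)
      exact h ▸ mulX_le 𝓕 αE α hα (I j)
    rw [e, show (α (𝓕.piece i) : ℚ) = (αE : ℚ) by exact_mod_cast h]
    nlinarith

include hα in
theorem abs_gam_le (I : Fin a → Fin (𝓕.t + 1)) :
    |𝓕.gam αE α I| ≤ (∑ i, 𝓕.wt i) * (a : ℚ) * ((αE : ℚ) - 1) := by
  refine (Finset.abs_sum_le_sum_abs _ _).trans ?_
  rw [mul_assoc, Finset.sum_mul]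
  refine Finset.sum_le_sum fun i _ => ?_
  rw [abs_mul, abs_of_pos (𝓕.wt_pos i)]
  exact mul_le_mul_of_nonneg_left
    (abs_le.2 ⟨(term_bounds 𝓕 αE α hα I i).2, (term_bounds 𝓕 αE α hα I i).1⟩) (𝓕.wt_pos i).le

include hα in
theorem abs_mu_le (N : DecSh.NV O a) : |𝓕.mu αE α N| ≤ (∑ i, 𝓕.wt i) * (a : ℚ) * ((αE : ℚ) - 1) := by
  obtain ⟨I, -, e⟩ := 𝓕.exists_gam_eq_mu αE α N
  exact e ▸ abs_gam_le 𝓕 αE α hα I

include hα in
theorem mu_le_sub (N : DecSh.NV O a) (𝓕₁ : DecSh.WFilt O) (e : Fin 𝓕₁.t → Fin 𝓕.t)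
    (hpiece : ∀ j, 𝓕₁.piece j = 𝓕.piece (e j)) (hwt : ∀ j, 𝓕₁.wt j = 𝓕.wt (e j)) :
    𝓕.mu αE α N ≤ 𝓕₁.mu αE α N + ((∑ i, 𝓕.wt i) - ∑ j, 𝓕₁.wt j) * (a : ℚ) * ((αE : ℚ) - 1) := by
  classical
  obtain ⟨I, hI, hmu⟩ := 𝓕₁.exists_gam_eq_mu αE α N
  let J : Fin a → Fin (𝓕.t + 1) := fun j => Fin.lastCases (Fin.last 𝓕.t) (fun i => (e i).castSucc) (I j)
  have hX : ∀ j, 𝓕.pieceX (J j) = 𝓕₁.pieceX (I j) ∧ 𝓕.mulX αE α (J j) = 𝓕₁.mulX αE α (I j) := fun j => by
    show 𝓕.pieceX (Fin.lastCases _ _ (I j)) = _ ∧ 𝓕.mulX αE α (Fin.lastCases _ _ (I j)) = _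
    refine Fin.lastCases ?_ (fun i => ?_) (I j)
    · simp
    · simp [hpiece]
  have hJ : 𝓕.Adm N J := by
    unfold DecSh.WFilt.Adm at hI ⊢
    simpa only [fun j => (hX j).1] using hI
  have he : Function.Injective e := fun i j h => 𝓕₁.piece_strictMono.injective (by rw [hpiece, hpiece, h])
  refine (𝓕.mu_le_gam αE α N hJ).trans ?_
  rw [← hmu]
  let t : Fin 𝓕.t → ℚ := fun i => 𝓕.wt i * ((a : ℚ) * (α (𝓕.piece i) : ℚ) - (𝓕.nu αE α J i : ℚ) * (αE : ℚ))
  have h1 : 𝓕₁.gam αE α I = ∑ i ∈ Finset.univ.image e, t i := by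
    rw [Finset.sum_image fun i _ j _ h => he h]
    refine Finset.sum_congr rfl fun j _ => ?_
    have hn : 𝓕₁.nu αE α I j = 𝓕.nu αE α J (e j) := by
      unfold DecSh.WFilt.nu
      simp only [fun i => (hX i).2, hpiece]
    simp only [t, hpiece, hwt, hn]
  have h2 : ∑ j, 𝓕₁.wt j = ∑ i ∈ Finset.univ.image e, 𝓕.wt i := by
    rw [Finset.sum_image fun i _ j _ h => he h]
    exact Finset.sum_congr rfl fun j _ => hwt j
  show ∑ i, t i ≤ _
  rw [h1, h2, ← Finset.sum_add_sum_compl (Finset.univ.image e) t,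
    ← Finset.sum_add_sum_compl (Finset.univ.image e) 𝓕.wt, add_sub_cancel_left, mul_assoc, Finset.sum_mul]
  refine add_le_add le_rfl (Finset.sum_le_sum fun i _ => ?_)
  exact mul_le_mul_of_nonneg_left (term_bounds 𝓕 αE α hα J i).1 (𝓕.wt_pos i).le

theorem gam_single_ge {P : Subobject O} (hP : P ≠ ⊤) (hP0 : ¬ IsZero (P : C)) (hαE : 0 ≤ αE)
    (N : DecSh.NV O a) :
    (a : ℚ) * (α P : ℚ) - (a : ℚ) * (αE : ℚ) ≤ (DecSh.WFilt.single P hP hP0).mu αE α N := by
  obtain ⟨I, -, e⟩ := (DecSh.WFilt.single P hP hP0).exists_gam_eq_mu αE α N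
  rw [← e]
  show _ ≤ ∑ _i : Fin 1, (1 : ℚ) * _
  rw [Fin.sum_univ_one, one_mul]
  have hn : ((DecSh.WFilt.single P hP hP0).nu αE α I (0 : Fin 1) : ℚ) ≤ (a : ℚ) := by
    refine Nat.cast_le.2 ((Finset.card_le_univ _).trans ?_)
    rw [Fintype.card_fin]
  have h2 : (0 : ℚ) ≤ (αE : ℚ) := by exact_mod_cast hαE
  show (a : ℚ) * (α P : ℚ) - _ ≤ (a : ℚ) * (α P : ℚ) - _
  nlinarith

end weights

include hdim hL hE hp in
theorem test_single {a b : ℕ} {D : X.Modules} (T : DecSh.TF E a b D) (d : Subobject E → ℚ) (dE δ : ℚ) (hδ : 0 < δ)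
    (hT : DecSh.IsDeltaSS (fun P : Subobject E => Coh.IsCoh (P : X.Modules)) (DecSh.mult k X L E)
      (fun P => DecSh.mult k X L (P : X.Modules)) dE d T.nv δ)
    {F : X.Modules} (ι : F ⟶ E) [Mono ι] (hF : Coh.IsCoh F) (h0 : ¬ IsZero F) (hι : ¬ IsIso ι) :
    (DecSh.mult k X L E : ℚ) * d (Subobject.mk ι) - (DecSh.mult k X L F : ℚ) * dE ≤
      δ * (a : ℚ) * ((DecSh.mult k X L E : ℚ) - (DecSh.mult k X L F : ℚ)) := by
  have hne : Subobject.mk ι ≠ ⊤ := fun e => hι ((Subobject.isIso_iff_mk_eq_top ι).2 e)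
  have hz : ¬ IsZero ((Subobject.mk ι : Subobject E) : X.Modules) := fun h => h0 (h.of_iso (Subobject.underlyingIso ι).symm)
  have hb := mult_bounds k hdim hL hE hp ι hF h0
  have h := hT (DecSh.WFilt.single (Subobject.mk ι) hne hz) fun _ => isCoh_of_iso (Subobject.underlyingIso ι).symm hF
  have hmu := gam_single_ge (DecSh.mult k X L E) (fun P => DecSh.mult k X L (P : X.Modules)) hne hz (by linarith) T.nv
  have hm : DecSh.mult k X L ((Subobject.mk ι : Subobject E) : X.Modules) = DecSh.mult k X L F :=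
    mult_iso k (Subobject.underlyingIso ι)
  have hs : (DecSh.WFilt.single (Subobject.mk ι) hne hz).msum (DecSh.mult k X L E)
      (fun P => DecSh.mult k X L (P : X.Modules)) dE d =
      (DecSh.mult k X L E : ℚ) * d (Subobject.mk ι) - (DecSh.mult k X L F : ℚ) * dE := by
    show ∑ _i : Fin 1, (1 : ℚ) * _ = _
    rw [Fin.sum_univ_one, one_mul]
    simp only [DecSh.WFilt.single, hm]
  rw [hs] at h
  simp only [hm] at hmu
  nlinarith [mul_le_mul_of_nonneg_left hmu hδ.le]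

end Groth.Agent.DecShCurveLib
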